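import Groth.Agent.PatchLib.Milnor
import Mathlib.AlgebraicGeometry.AffineTransitionLimit
import Mathlib.Algebra.Category.Ring.FilteredColimits
import Mathlib.Algebra.Category.Ring.Constructions
import Mathlib.RingTheory.Polynomial.Basic
import Mathlib.CategoryTheory.Filtered.Basic

/-!
# Quillen's descent lemma for schemes locally of finite presentation
-/

set_option autoImplicit false

universe u

open CategoryTheory Limits AlgebraicGeometry Polynomial

namespace PatchLib

noncomputable section

variable {A B : Type u} [CommRing A] [CommRing B] [Algebra A B] (r : A)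

/-- The ring `{p ∈ B[X] | p(0) comes from A}`. -/
def glueRing (A B : Type u) [CommRing A] [CommRing B] [Algebra A B] : Subring (A × B[X]) :=
  RingHom.eqLocus ((algebraMap A B).comp (RingHom.fst A B[X]))
    ((evalRingHom (0 : B)).comp (RingHom.snd A B[X]))

theorem mem_glueRing {z : A × B[X]} : z ∈ glueRing A B ↔ algebraMap A B z.1 = z.2.eval 0 := Iff.rfl

def glueFst : glueRing A B →+* A := (RingHom.fst A B[X]).comp (glueRing A B).subtype
def glueSnd : glueRing A B →+* B[X] := (RingHom.snd A B[X]).comp (glueRing A B).subtype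

theorem isMilnor_glue : IsMilnor (glueFst (A := A) (B := B)) glueSnd (algebraMap A B) (evalRingHom 0) where
  comm c := c.2
  inj c c' h1 h2 := Subtype.ext (Prod.ext h1 h2)
  exists_eq a b h := ⟨⟨(a, b), h⟩, rfl, rfl⟩
  surj b := ⟨Polynomial.C b, eval_C⟩

/-- The constants. -/
def glueC : A →+* glueRing A B :=
  ((RingHom.id A).prod ((Polynomial.C : B →+* B[X]).comp (algebraMap A B))).codRestrict _
    fun a => by simp [mem_glueRing]

@[simp]
theorem coe_glueC (a : A) :
    ((glueC a : glueRing A B) : A × B[X]) = (a, Polynomial.C (algebraMap A B a)) := rfl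

/-- `X / r ^ n`. -/
def glueX [IsLocalization.Away r B] (n : ℕ) : glueRing A B :=
  ⟨(0, Polynomial.C (IsLocalization.Away.invSelf r ^ n : B) * X), by simp [mem_glueRing]⟩

@[simp]
theorem coe_glueX [IsLocalization.Away r B] (n : ℕ) :
    ((glueX (B := B) r n : glueRing A B) : A × B[X]) =
      (0, Polynomial.C (IsLocalization.Away.invSelf r ^ n : B) * X) := rfl

/-- The `n`-th chart of `glueRing`. -/
def glueι [IsLocalization.Away r B] (n : ℕ) : A[X] →+* glueRing A B :=
  eval₂RingHom glueC (glueX r n)

/-- Scale the variable. -/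
def scale (a : A) : A[X] →+* A[X] := eval₂RingHom Polynomial.C (Polynomial.C a * X)

theorem scale_mul (a b : A) : (scale a).comp (scale b) = scale (a * b) := by
  refine Polynomial.ringHom_ext (fun c => by simp [scale]) ?_
  simp [scale, map_mul]; ring

theorem glueι_scale [IsLocalization.Away r B] (n k : ℕ) :
    (glueι (B := B) r (n + k)).comp (scale (r ^ k)) = glueι r n := by
  refine Polynomial.ringHom_ext (fun c => by simp [glueι, scale]) ?_
  have e : (glueι (B := B) r (n + k)).comp (scale (r ^ k)) X = glueC (r ^ k) * glueX r (n + k) := by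
    simp [glueι, scale, eval₂_pow]
  rw [e, show glueι (B := B) r n X = glueX r n by simp [glueι]]
  refine Subtype.ext ?_
  rw [Subring.coe_mul, coe_glueC, coe_glueX, coe_glueX, Prod.mk_mul_mk, mul_zero, ← mul_assoc,
    ← map_mul Polynomial.C, map_pow, pow_add, mul_left_comm, ← mul_pow (algebraMap A B r),
    IsLocalization.Away.mul_invSelf, one_pow, mul_one]

theorem glueSnd_glueι [IsLocalization.Away r B] (n : ℕ) :
    (glueSnd.comp (glueι (B := B) r n)) =
      eval₂RingHom ((Polynomial.C : B →+* B[X]).comp (algebraMap A B))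
        (Polynomial.C (IsLocalization.Away.invSelf r ^ n : B) * X) := by
  refine Polynomial.ringHom_ext (fun c => ?_) ?_ <;> simp [glueι, glueSnd]

theorem glueFst_glueι [IsLocalization.Away r B] (n : ℕ) :
    glueFst.comp (glueι (B := B) r n) = evalRingHom 0 := by
  refine Polynomial.ringHom_ext (fun c => ?_) ?_ <;> simp [glueι, glueFst]

theorem coeff_glueι [IsLocalization.Away r B] (n : ℕ) (P : A[X]) (k : ℕ) :
    (glueSnd (glueι (B := B) r n P)).coeff k =
      algebraMap A B (P.coeff k) * (IsLocalization.Away.invSelf r ^ n : B) ^ k := by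
  rw [← RingHom.comp_apply, glueSnd_glueι]
  induction P using Polynomial.induction_on' with
  | add P Q hP hQ => simp only [map_add, coeff_add, hP, hQ, add_mul]
  | monomial j a =>
    rw [coe_eval₂RingHom, eval₂_monomial, RingHom.comp_apply, mul_pow, ← map_pow Polynomial.C, ← mul_assoc,
      ← map_mul Polynomial.C, coeff_C_mul_X_pow, coeff_monomial]
    split_ifs with h1 h2 h2
    · subst h1; rfl
    · exact absurd h1.symm h2
    · exact absurd h2.symm h1
    · simp

theorem coeff_scale (a : A) (P : A[X]) (k : ℕ) : (scale a P).coeff k = P.coeff k * a ^ k := by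
  induction P using Polynomial.induction_on' with
  | add P Q hP hQ => simp [map_add, hP, hQ, add_mul]
  | monomial j b =>
    rw [scale, coe_eval₂RingHom, eval₂_monomial, mul_pow, ← map_pow Polynomial.C, ← mul_assoc,
      ← map_mul Polynomial.C, coeff_C_mul_X_pow, coeff_monomial]
    split_ifs with h1 h2 h2
    · subst h1; rfl
    · exact absurd h1.symm h2
    · exact absurd h2.symm h1
    · simp

variable [IsLocalization.Away r B]

theorem exists_scale_eq_zero (n : ℕ) (P : A[X]) (h : glueι (B := B) r n P = 0) :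
    ∃ k, scale (r ^ k) P = 0 := by
  classical
  have h0 : P.coeff 0 = 0 := by
    have := congrArg glueFst h
    rw [map_zero, ← RingHom.comp_apply, glueFst_glueι] at this
    rwa [coeff_zero_eq_eval_zero]
  have hj : ∀ j, ∃ t, 1 ≤ j → r ^ t * P.coeff j = 0 := fun j => by
    have h1 := congrArg (fun z => (glueSnd z).coeff j) h
    simp only [coeff_glueι, map_zero, coeff_zero] at h1
    have hu : IsUnit ((IsLocalization.Away.invSelf r ^ n : B) ^ j) :=
      ((IsUnit.of_mul_eq_one_right _ (IsLocalization.Away.mul_invSelf r)).pow n).pow j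
    obtain ⟨⟨_, t, rfl⟩, ht⟩ :=
      (IsLocalization.map_eq_zero_iff (Submonoid.powers r) B _).1 (hu.mul_left_eq_zero.1 h1)
    exact ⟨t, fun _ => ht⟩
  choose t ht using hj
  refine ⟨P.support.sup t, Polynomial.ext fun j => ?_⟩
  rw [coeff_scale, coeff_zero]
  rcases Nat.eq_zero_or_pos j with rfl | hj
  · simp [h0]
  by_cases hs : j ∈ P.support
  · obtain ⟨i, hi⟩ : ∃ i, (P.support.sup t) * j = t j + i := Nat.exists_eq_add_of_le
      (le_trans (Finset.le_sup hs) (Nat.le_mul_of_pos_right _ hj))
    rw [← pow_mul, hi, pow_add, ← mul_assoc, mul_comm (P.coeff j), ht j hj, zero_mul]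
  · simp [notMem_support_iff.1 hs]

theorem exists_glueι_eq (c : glueRing A B) : ∃ n P, glueι r n P = c := by
  obtain ⟨⟨a, Q⟩, hc⟩ := c
  suffices h : ∀ Q : B[X], ∃ (n : ℕ) (P : A[X]),
      glueι r n P = (⟨(0, Q - Polynomial.C (Q.eval 0)), by simp [mem_glueRing]⟩ : glueRing A B) by
    obtain ⟨n, P, hP⟩ := h Q
    refine ⟨n, Polynomial.C a + P, ?_⟩
    rw [map_add, hP]
    refine Subtype.ext (Prod.ext ?_ ?_)
    · simp [glueι]
    · simp [glueι, mem_glueRing.1 hc]
  intro Q
  induction Q using Polynomial.induction_on' with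
  | add Q₁ Q₂ h₁ h₂ =>
    obtain ⟨n₁, P₁, e₁⟩ := h₁
    obtain ⟨n₂, P₂, e₂⟩ := h₂
    refine ⟨n₁ + n₂, scale (r ^ n₂) P₁ + scale (r ^ n₁) P₂, ?_⟩
    rw [map_add, ← RingHom.comp_apply, glueι_scale, ← RingHom.comp_apply, add_comm n₁ n₂, glueι_scale, e₁, e₂]
    refine Subtype.ext (Prod.ext ?_ ?_)
    · simp
    · simp only [eval_add, map_add, Subring.coe_add, Prod.snd_add]; ring
  | monomial j b =>
    rcases Nat.eq_zero_or_pos j with rfl | hj
    · exact ⟨0, 0, Subtype.ext (Prod.ext (by simp) (by simp))⟩
    obtain ⟨m, a, ha⟩ := IsLocalization.Away.surj r b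
    obtain ⟨i, hi⟩ : ∃ i, m * j = m + i := Nat.exists_eq_add_of_le (Nat.le_mul_of_pos_right _ hj)
    refine ⟨m, Polynomial.monomial j (a * r ^ i), Subtype.ext (Prod.ext ?_ ?_)⟩
    · show (glueFst.comp (glueι (B := B) r m)) _ = (0 : A)
      rw [glueFst_glueι, coe_evalRingHom, eval_monomial, zero_pow hj.ne', mul_zero]
    · show glueSnd (glueι r m _) = _ - _
      ext k
      rw [coeff_glueι, coeff_monomial, eval_monomial, zero_pow hj.ne', mul_zero, map_zero, sub_zero, coeff_monomial]
      split_ifs with hjk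
      · subst hjk
        rw [map_mul, map_pow, ← ha, ← pow_mul, hi]
        have h1 : algebraMap A B r * (IsLocalization.Away.invSelf r : B) = 1 :=
          IsLocalization.Away.mul_invSelf r
        calc b * algebraMap A B r ^ m * algebraMap A B r ^ i * (IsLocalization.Away.invSelf r : B) ^ (m + i)
            = b * (algebraMap A B r * (IsLocalization.Away.invSelf r : B)) ^ (m + i) := by
              rw [mul_pow, pow_add (algebraMap A B r)]; ring
          _ = b := by rw [h1, one_pow, mul_one]
      · simp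

/-- The diagram `A[X] → A[X] → ⋯`. -/
def scaleDiag : ULift.{u} ℕ ⥤ CommRingCat.{u} where
  obj _ := CommRingCat.of A[X]
  map {i j} _ := CommRingCat.ofHom (scale (r ^ (j.down - i.down)))
  map_id i := by
    ext : 1
    refine Polynomial.ringHom_ext (fun c => ?_) ?_ <;> simp [scale]
  map_comp {i j k} f g := by
    ext : 1
    rw [CommRingCat.hom_comp, CommRingCat.hom_ofHom, CommRingCat.hom_ofHom, CommRingCat.hom_ofHom,
      scale_mul, ← pow_add, Nat.sub_add_sub_cancel (ULift.down_le.2 (leOfHom g)) (ULift.down_le.2 (leOfHom f))]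

def glueCocone : Cocone (scaleDiag r) where
  pt := CommRingCat.of (glueRing A B)
  ι :=
    { app := fun i => CommRingCat.ofHom (glueι (B := B) r i.down)
      naturality := fun i j f => by
        ext : 1
        obtain ⟨k, hk⟩ := Nat.exists_eq_add_of_le (ULift.down_le.2 (leOfHom f))
        show (glueι (B := B) r j.down).comp (scale (r ^ (j.down - i.down))) = glueι r i.down
        rw [hk, Nat.add_sub_cancel_left, glueι_scale] }

theorem isColimit_glueCocone : Nonempty (IsColimit (glueCocone (B := B) r)) := by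
  have : IsFiltered (ULift.{u} ℕ) := inferInstance
  have : HasColimit (scaleDiag r) := inferInstance
  have : PreservesColimit (scaleDiag r) (forget CommRingCat.{u}) := inferInstance
  have : ReflectsColimit (scaleDiag r) (forget CommRingCat.{u}) := reflectsColimit_of_reflectsIsomorphisms _ _
  refine ⟨isColimitOfReflects (forget CommRingCat) (Types.FilteredColimit.isColimitOf _ _ ?_ ?_)⟩
  · intro c
    obtain ⟨n, P, h⟩ := exists_glueι_eq r c
    exact ⟨⟨n⟩, P, h.symm⟩
  · intro i j (P : A[X]) (Q : A[X]) h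
    let m := i.down + j.down
    have hPm : glueι (B := B) r m (scale (r ^ j.down) P) = glueι r i.down P :=
      RingHom.congr_fun (glueι_scale r i.down j.down) P
    have hQm : glueι (B := B) r m (scale (r ^ i.down) Q) = glueι r j.down Q := by
      show glueι r (i.down + j.down) _ = _
      rw [add_comm]; exact RingHom.congr_fun (glueι_scale r j.down i.down) Q
    obtain ⟨k, hk⟩ := exists_scale_eq_zero (B := B) r m (scale (r ^ j.down) P - scale (r ^ i.down) Q)
      (by rw [map_sub, hPm, hQm]; exact sub_eq_zero.2 h)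
    rw [map_sub, sub_eq_zero, ← RingHom.comp_apply, ← RingHom.comp_apply, scale_mul, scale_mul,
      ← pow_add, ← pow_add] at hk
    refine ⟨⟨m + k⟩, homOfLE (ULift.down_le.1 (by show i.down ≤ m + k; omega)),
      homOfLE (ULift.down_le.1 (by show j.down ≤ m + k; omega)), ?_⟩
    show scale (r ^ (m + k - i.down)) P = scale (r ^ (m + k - j.down)) Q
    rwa [show m + k - i.down = k + j.down by omega, show m + k - j.down = k + i.down by omega]

/-- **Descent**: a map `Spec B[X] → G` which on `X = 0` comes from `A` extends, after scaling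
the variable, to `Spec A[X]`. -/
theorem exists_descend {S : Scheme.{u}} {G : Scheme.{u}} (pG : G ⟶ S) [LocallyOfFinitePresentation pG]
    (sA : Spec (CommRingCat.of A) ⟶ S) (e : Spec (CommRingCat.of A) ⟶ G) (he : e ≫ pG = sA)
    (f : Spec (CommRingCat.of B[X]) ⟶ G)
    (hf : f ≫ pG = Spec.map (CommRingCat.ofHom ((Polynomial.C : B →+* B[X]).comp (algebraMap A B))) ≫ sA)
    (h0 : Spec.map (CommRingCat.ofHom (evalRingHom (0 : B))) ≫ f =
      Spec.map (CommRingCat.ofHom (algebraMap A B)) ≫ e) :
    ∃ (N : ℕ) (g : Spec (CommRingCat.of A[X]) ⟶ G),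
      g ≫ pG = Spec.map (CommRingCat.ofHom (Polynomial.C : A →+* A[X])) ≫ sA ∧
      Spec.map (CommRingCat.ofHom (evalRingHom (0 : A))) ≫ g = e ∧
      Spec.map (CommRingCat.ofHom (mapRingHom (algebraMap A B))) ≫ g =
        Spec.map (CommRingCat.ofHom (scale (algebraMap A B r ^ N))) ≫ f := by
  obtain ⟨a, haA, haB⟩ := exists_glue (isMilnor_glue (A := A) (B := B)) e f h0.symm
  have haS : a ≫ pG = Spec.map (CommRingCat.ofHom (glueC (A := A) (B := B))) ≫ sA := by
    refine hom_ext (isMilnor_glue (A := A) (B := B)) ?_ ?_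
    · rw [reassoc_of% haA, he, ← Category.assoc, ← Spec.map_comp]
      rw [show CommRingCat.ofHom (glueC (A := A) (B := B)) ≫ CommRingCat.ofHom glueFst = 𝟙 _ from rfl,
        Spec.map_id, Category.id_comp]
    · rw [reassoc_of% haB, hf, ← Category.assoc, ← Spec.map_comp]
      rfl
  let D : (ULift.{u} ℕ)ᵒᵖ ⥤ Scheme.{u} := (scaleDiag r).op ⋙ Scheme.Spec
  let cn : Cone D := Scheme.Spec.mapCone (glueCocone (B := B) r).op
  have hcn : IsLimit cn := isLimitOfPreserves Scheme.Spec (isColimit_glueCocone r).some.op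
  let t : D ⟶ (Functor.const _).obj S :=
    { app := fun i => Spec.map (CommRingCat.ofHom (Polynomial.C : A →+* A[X])) ≫ sA
      naturality := fun i j φ => by
        show Spec.map (CommRingCat.ofHom (scale _)) ≫ Spec.map (CommRingCat.ofHom Polynomial.C) ≫ sA =
          (Spec.map (CommRingCat.ofHom Polynomial.C) ≫ sA) ≫ 𝟙 S
        rw [← Category.assoc, ← Spec.map_comp, Category.comp_id]
        congr 2
        ext c; simp [scale] }
  have : ∀ {i j : (ULift.{u} ℕ)ᵒᵖ} (φ : i ⟶ j), IsAffineHom (D.map φ) := fun φ =>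
    inferInstanceAs (IsAffineHom (Spec.map _))
  have : ∀ i, CompactSpace (D.obj i) := fun i => inferInstanceAs (CompactSpace (Spec _))
  have : ∀ i, QuasiSeparatedSpace (D.obj i) := fun i => inferInstanceAs (QuasiSeparatedSpace (Spec _))
  obtain ⟨⟨⟨N⟩⟩, g, hg, hgS⟩ := Scheme.exists_π_app_comp_eq_of_locallyOfFinitePresentation D t pG cn hcn a (by
    ext i
    show Spec.map (CommRingCat.ofHom (glueι (B := B) r i.unop.down)) ≫
      Spec.map (CommRingCat.ofHom Polynomial.C) ≫ sA = a ≫ pG
    rw [haS, ← Category.assoc, ← Spec.map_comp]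
    congr 2
    ext c : 2
    simp [glueι])
  obtain ⟨g, rfl⟩ : ∃ g' : Spec (CommRingCat.of A[X]) ⟶ G, g' = g := ⟨g, rfl⟩
  change Spec.map (CommRingCat.ofHom (glueι (B := B) r N)) ≫ g = a at hg
  refine ⟨N, g, hgS, ?_, ?_⟩
  · rw [← haA, ← hg, ← Spec.map_comp_assoc]
    erw [← CommRingCat.ofHom_comp]
    rw [glueFst_glueι]
  · rw [← haB, ← hg, ← Spec.map_comp_assoc, ← Spec.map_comp_assoc]
    erw [← CommRingCat.ofHom_comp]
    show _ = Spec.map (CommRingCat.ofHom (((scale (algebraMap A B r ^ N)).comp glueSnd).comp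
      (glueι (B := B) r N))) ≫ g
    rw [RingHom.comp_assoc, glueSnd_glueι]
    congr 3
    refine Polynomial.ringHom_ext (fun c => by simp [scale]) ?_
    simp [scale, eval₂_pow]
    rw [← mul_assoc, ← mul_pow, ← map_mul Polynomial.C, mul_comm (IsLocalization.Away.invSelf r : B),
      IsLocalization.Away.mul_invSelf, map_one, one_pow, one_mul]

end

end PatchLib
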