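import Groth.Agent.PatchLib.Descend
import Mathlib.RingTheory.Localization.Algebra
import Mathlib.CategoryTheory.Monoidal.Cartesian.Over
import Mathlib.CategoryTheory.Monoidal.Cartesian.Grp
import Mathlib.AlgebraicGeometry.Limits

/-!
# Quillen patching of points of a group scheme
-/

set_option autoImplicit false

universe u

open CategoryTheory Limits MonoidalCategory CartesianMonoidalCategory MonObj GrpObj AlgebraicGeometry Polynomial

namespace PatchLib

noncomputable section

theorem away_of_mul {R A B : Type u} [CommRing R] [CommRing A] [CommRing B] [Algebra R A] [Algebra R B]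
    [Algebra A B] [IsScalarTower R A B] (r r' : R) [IsLocalization.Away r A]
    [IsLocalization.Away (r * r') B] : IsLocalization.Away (algebraMap R A r') B := by
  have hu := IsLocalization.Away.algebraMap_isUnit (S := B) (r * r')
  rw [map_mul] at hu
  refine IsLocalization.Away.mk _ ?_ (fun z => ?_) (fun x y h => ?_)
  · rw [← IsScalarTower.algebraMap_apply]; exact (IsUnit.mul_iff.1 hu).2
  · obtain ⟨n, a, hn⟩ := IsLocalization.Away.surj (r * r') z
    have hr := (IsLocalization.Away.algebraMap_isUnit (S := A) r).pow n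
    obtain ⟨w, hw⟩ := hr.dvd (a := algebraMap R A a)
    refine ⟨n, w, ((IsUnit.mul_iff.1 hu).1.pow n).mul_left_cancel ?_⟩
    have h1 := congrArg (algebraMap A B) hw
    rw [map_mul, map_pow, ← IsScalarTower.algebraMap_apply, ← IsScalarTower.algebraMap_apply, ← hn,
      map_mul, mul_pow] at h1
    rw [← h1, ← IsScalarTower.algebraMap_apply]
    ring
  · obtain ⟨n, a, ha⟩ := IsLocalization.Away.surj r (x - y)
    have h0 : algebraMap R B a = 0 := by
      rw [IsScalarTower.algebraMap_apply R A B, ← ha, map_mul, map_sub, h, sub_self, zero_mul]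
    obtain ⟨⟨_, k, rfl⟩, hk⟩ := (IsLocalization.map_eq_zero_iff (Submonoid.powers (r * r')) B _).1 h0
    have hr := (IsLocalization.Away.algebraMap_isUnit (S := A) r)
    refine ⟨k, sub_eq_zero.1 ?_⟩
    rw [← mul_sub]
    have h1 := congrArg (algebraMap R A) hk
    simp only [mul_pow, map_mul, map_pow, map_zero, ← ha] at h1
    refine ((hr.pow k).mul (hr.pow n)).mul_left_cancel ?_
    rw [mul_zero]; linear_combination h1

variable {R : Type u} [CommRing R]

/-- `Spec S` over `Spec R`. -/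
abbrev pt (R : Type u) [CommRing R] (S : Type u) [CommRing S] [Algebra R S] :
    Over (Spec (CommRingCat.of R)) :=
  Over.mk (Spec.map (CommRingCat.ofHom (algebraMap R S)))

variable {S S' S'' : Type u} [CommRing S] [CommRing S'] [CommRing S''] [Algebra R S] [Algebra R S']
  [Algebra R S'']

/-- The morphism of `R`-schemes of an algebra map. -/
def ptMap (φ : S →ₐ[R] S') : pt R S' ⟶ pt R S :=
  Over.homMk (Spec.map (CommRingCat.ofHom φ.toRingHom)) (by
    show Spec.map _ ≫ Spec.map _ = Spec.map _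
    rw [← Spec.map_comp, ← CommRingCat.ofHom_comp]
    congr 2
    exact φ.comp_algebraMap)

theorem ptMap_comp (φ : S →ₐ[R] S') (ψ : S' →ₐ[R] S'') : ptMap ψ ≫ ptMap φ = ptMap (ψ.comp φ) := by
  ext1
  show Spec.map _ ≫ Spec.map _ = Spec.map _
  rw [← Spec.map_comp]
  rfl

theorem ptMap_id : ptMap (AlgHom.id R S) = 𝟙 (pt R S) := by
  ext1
  show Spec.map _ = 𝟙 _
  exact Spec.map_id _

theorem eq_ptMap {e : pt R S' ⟶ pt R S} (φ : S →ₐ[R] S')
    (h : e.left = Spec.map (CommRingCat.ofHom φ.toRingHom)) : e = ptMap φ := Over.OverMorphism.ext h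

/-- `X ↦ x`. -/
def sub₁ (f : S →ₐ[R] S') (x : S') : S[X] →ₐ[R] S' :=
  { eval₂RingHom f.toRingHom x with
    commutes' := fun c => by
      show eval₂ f.toRingHom x (algebraMap R S[X] c) = _
      simp [Polynomial.algebraMap_apply] }

@[simp] theorem sub₁_C (f : S →ₐ[R] S') (x : S') (s : S) : sub₁ f x (C s) = f s := eval₂_C ..
@[simp] theorem sub₁_X (f : S →ₐ[R] S') (x : S') : sub₁ f x X = x := eval₂_X ..

theorem algHom_ext {f g : S[X] →ₐ[R] S'} (hC : ∀ s, f (C s) = g (C s)) (hX : f X = g X) : f = g :=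
  AlgHom.ext fun p => RingHom.congr_fun (Polynomial.ringHom_ext (f := f.toRingHom) (g := g.toRingHom) hC hX) p

/-- Constants. -/
def cst : S →ₐ[R] S[X] := { (C : S →+* S[X]) with commutes' := fun _ => rfl }

@[simp] theorem cst_apply (s : S) : cst (R := R) s = C s := rfl

variable (G : Over (Spec (CommRingCat.of R))) [GrpObj G]

/-- The descent step on `R`-points. -/
theorem exists_descend_pt [LocallyOfFinitePresentation G.hom] {A B : Type u} [CommRing A] [CommRing B]
    [Algebra R A] [Algebra R B] [Algebra A B] [IsScalarTower R A B] (r : A) [IsLocalization.Away r B]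
    (f : pt R B[X] ⟶ G) (hf : ptMap (sub₁ (AlgHom.id R B) 0) ≫ f = 1) :
    ∃ (N : ℕ) (g : pt R A[X] ⟶ G), ptMap (sub₁ (AlgHom.id R A) 0) ≫ g = 1 ∧
      ptMap (sub₁ (cst.comp (IsScalarTower.toAlgHom R A B)) (X : B[X])) ≫ g =
        ptMap (sub₁ cst (C (algebraMap A B r ^ N) * X)) ≫ f := by
  have e1 : ptMap (IsScalarTower.toAlgHom R A B) ≫ (1 : pt R A ⟶ G) = 1 := MonObj.comp_one _
  obtain ⟨N, g, hgS, hg0, hgN⟩ := exists_descend r G.hom (Spec.map (CommRingCat.ofHom (algebraMap R A)))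
    (1 : pt R A ⟶ G).left (Over.w (1 : pt R A ⟶ G)) f.left
    (by
      refine (Over.w f).trans ?_
      show Spec.map _ = Spec.map _ ≫ Spec.map _
      rw [← Spec.map_comp, ← CommRingCat.ofHom_comp]
      congr 2
      ext c
      simp [Polynomial.algebraMap_apply, ← IsScalarTower.algebraMap_apply])
    ((congrArg CommaMorphism.left (hf.trans e1.symm) : _) : _)
  refine ⟨N, Over.homMk g ?_, Over.OverMorphism.ext ?_, Over.OverMorphism.ext ?_⟩
  · rw [hgS]
    show Spec.map _ ≫ Spec.map _ = Spec.map _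
    rw [← Spec.map_comp]
    rfl
  · exact hg0
  · have eA : CommRingCat.ofHom (sub₁ ((cst : B →ₐ[R] B[X]).comp (IsScalarTower.toAlgHom R A B)) X).toRingHom =
        CommRingCat.ofHom (mapRingHom (algebraMap A B)) := by
      congr 1
    show Spec.map _ ≫ g = Spec.map _ ≫ f.left
    rw [eA, hgN]
    rfl

/-- **Quillen patching.** -/
theorem exists_mul [LocallyOfFinitePresentation G.hom] {r r' : R} (hrr : Ideal.span ({r, r'} : Set R) = ⊤)
    (A A' B : Type u) [CommRing A] [CommRing A'] [CommRing B] [Algebra R A] [Algebra R A'] [Algebra R B]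
    [IsLocalization.Away r A] [IsLocalization.Away r' A'] [IsLocalization.Away (r * r') B]
    [Algebra A B] [Algebra A' B] [IsScalarTower R A B] [IsScalarTower R A' B]
    (g : pt R B[X] ⟶ G) (hg : ptMap (sub₁ (AlgHom.id R B) 0) ≫ g = 1) :
    ∃ (g₁ : pt R A[X] ⟶ G) (g₂ : pt R A'[X] ⟶ G),
      ptMap (sub₁ (AlgHom.id R A) 0) ≫ g₁ = 1 ∧ ptMap (sub₁ (AlgHom.id R A') 0) ≫ g₂ = 1 ∧
      g = (ptMap (sub₁ (cst.comp (IsScalarTower.toAlgHom R A B)) (X : B[X])) ≫ g₁) *
        (ptMap (sub₁ (cst.comp (IsScalarTower.toAlgHom R A' B)) (X : B[X])) ≫ g₂) := by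
  letI : Algebra A[X] B[X] := (mapRingHom (algebraMap A B)).toAlgebra
  letI : Algebra A'[X] B[X] := (mapRingHom (algebraMap A' B)).toAlgebra
  have : IsScalarTower R A[X] B[X] := IsScalarTower.of_algebraMap_eq fun c => by
    simp [RingHom.algebraMap_toAlgebra, Polynomial.algebraMap_apply, ← IsScalarTower.algebraMap_apply]
  have : IsScalarTower R A'[X] B[X] := IsScalarTower.of_algebraMap_eq fun c => by
    simp [RingHom.algebraMap_toAlgebra, Polynomial.algebraMap_apply, ← IsScalarTower.algebraMap_apply]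
  have hA : IsLocalization.Away (algebraMap R A r') B := away_of_mul r r'
  have hA' : IsLocalization.Away (algebraMap R A' r) B := by
    have : IsLocalization.Away (r' * r) B := by rw [mul_comm]; infer_instance
    exact away_of_mul r' r
  have : IsLocalization.Away (C (algebraMap R A r') : A[X]) B[X] := by
    have := Polynomial.isLocalization (Submonoid.powers (algebraMap R A r')) B
    rwa [Submonoid.map_powers] at this
  have : IsLocalization.Away (C (algebraMap R A' r) : A'[X]) B[X] := by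
    have := Polynomial.isLocalization (Submonoid.powers (algebraMap R A' r)) B
    rwa [Submonoid.map_powers] at this
  -- `φ(u, w) = g(u + w) / g(u)`
  let φ : pt R B[X][X] ⟶ G :=
    (ptMap (sub₁ ((cst (S := B[X])).comp cst) (C X + X)) ≫ g) *
      (ptMap ((cst (R := R) (S := B[X])).comp (AlgHom.id R B[X])) ≫ g)⁻¹
  have hφ0 : ptMap (sub₁ (AlgHom.id R B[X]) 0) ≫ φ = 1 := by
    rw [MonObj.comp_mul, GrpObj.comp_inv, ← Category.assoc, ← Category.assoc, ptMap_comp, ptMap_comp]
    rw [show (sub₁ (AlgHom.id R B[X]) 0).comp (sub₁ ((cst (S := B[X])).comp cst) (C X + X)) =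
      (sub₁ (AlgHom.id R B[X]) 0).comp ((cst (R := R) (S := B[X])).comp (AlgHom.id R B[X])) from
      algHom_ext (fun s => by simp) (by simp), mul_inv_cancel]
  obtain ⟨N, φ₁, hφ₁0, hφ₁⟩ := exists_descend_pt G (C (algebraMap R A r') : A[X]) φ hφ0
  obtain ⟨M, φ₂, hφ₂0, hφ₂⟩ := exists_descend_pt G (C (algebraMap R A' r) : A'[X]) φ hφ0
  have hspan : Ideal.span ({r ^ M, r' ^ N} : Set R) = ⊤ := by
    have hco : IsCoprime r r' := by
      rw [← Ideal.isCoprime_span_singleton_iff, Ideal.isCoprime_iff_sup_eq, ← Ideal.span_union]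
      exact hrr
    obtain ⟨a, b, hab⟩ := hco.pow (m := M) (n := N)
    exact (Ideal.eq_top_iff_one _).2 (Ideal.mem_span_pair.2 ⟨a, b, hab⟩)
  obtain ⟨a, b, hab⟩ := Ideal.mem_span_pair.1 ((Ideal.eq_top_iff_one _).1 hspan)
  let θ₁ : A[X][X] →ₐ[R] A[X] :=
    sub₁ (sub₁ cst (C (algebraMap R A (a * r ^ M)) * X)) (C (algebraMap R A b) * X)
  let θ₂ : A'[X][X] →ₐ[R] A'[X] := sub₁ (sub₁ cst 0) (C (algebraMap R A' a) * X)
  refine ⟨ptMap θ₁ ≫ φ₁, ptMap θ₂ ≫ φ₂, ?_, ?_, ?_⟩
  · rw [← Category.assoc, ptMap_comp,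
      show (sub₁ (AlgHom.id R A) 0).comp θ₁ =
        ((sub₁ (AlgHom.id R A) 0)).comp (sub₁ (AlgHom.id R A[X]) 0) from
        algHom_ext (fun s => by
          refine DFunLike.congr_fun (algHom_ext (f := ((sub₁ (AlgHom.id R A) 0).comp θ₁).comp cst)
            (g := ((sub₁ (AlgHom.id R A) 0).comp (sub₁ (AlgHom.id R A[X]) 0)).comp cst)
            (fun c => ?_) ?_) s <;> simp [θ₁]) (by simp [θ₁]),
      ← ptMap_comp, Category.assoc, hφ₁0, MonObj.comp_one]
  · rw [← Category.assoc, ptMap_comp,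
      show (sub₁ (AlgHom.id R A') 0).comp θ₂ =
        ((sub₁ (AlgHom.id R A') 0)).comp (sub₁ (AlgHom.id R A'[X]) 0) from
        algHom_ext (fun s => by
          refine DFunLike.congr_fun (algHom_ext (f := ((sub₁ (AlgHom.id R A') 0).comp θ₂).comp cst)
            (g := ((sub₁ (AlgHom.id R A') 0).comp (sub₁ (AlgHom.id R A'[X]) 0)).comp cst)
            (fun c => ?_) ?_) s <;> simp [θ₂]) (by simp [θ₂]),
      ← ptMap_comp, Category.assoc, hφ₂0, MonObj.comp_one]
  -- evaluate `φ` at two points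
  let ε₁ : B[X][X] →ₐ[R] B[X] :=
    sub₁ (sub₁ cst (C (algebraMap R B (a * r ^ M)) * X)) (C (algebraMap R B b) * X)
  let ε₂ : B[X][X] →ₐ[R] B[X] := sub₁ (sub₁ cst 0) (C (algebraMap R B a) * X)
  let τ : B[X] →ₐ[R] B[X] := sub₁ cst (C (algebraMap R B (a * r ^ M)) * X)
  let σ₁ : B[X][X] →ₐ[R] B[X] :=
    ε₁.comp (sub₁ cst (C (algebraMap A[X] B[X] (C (algebraMap R A r')) ^ N) * X))
  have h₁ : ptMap (sub₁ (cst.comp (IsScalarTower.toAlgHom R A B)) (X : B[X])) ≫ ptMap θ₁ ≫ φ₁ =
      g * (ptMap τ ≫ g)⁻¹ := by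
    rw [← Category.assoc, ptMap_comp,
      show (sub₁ (cst.comp (IsScalarTower.toAlgHom R A B)) (X : B[X])).comp θ₁ =
        ε₁.comp (sub₁ (cst.comp (IsScalarTower.toAlgHom R A[X] B[X])) (X : B[X][X])) from
        algHom_ext (fun s => by
          refine DFunLike.congr_fun (algHom_ext
            (f := ((sub₁ (cst.comp (IsScalarTower.toAlgHom R A B)) (X : B[X])).comp θ₁).comp cst)
            (g := (ε₁.comp (sub₁ (cst.comp (IsScalarTower.toAlgHom R A[X] B[X])) (X : B[X][X]))).comp cst)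
            (fun c => ?_) ?_) s <;>
          simp [θ₁, ε₁, RingHom.algebraMap_toAlgebra, ← IsScalarTower.algebraMap_apply, map_mul, map_pow]) (by
          simp [θ₁, ε₁, ← IsScalarTower.algebraMap_apply]),
      ← ptMap_comp, Category.assoc, hφ₁, ← Category.assoc, ptMap_comp, MonObj.comp_mul, GrpObj.comp_inv,
      ← Category.assoc, ← Category.assoc, ptMap_comp, ptMap_comp]
    have e1 : σ₁.comp (sub₁ ((cst (S := B[X])).comp cst) (C X + X)) = AlgHom.id R B[X] := by
      refine algHom_ext (fun s => by simp [σ₁, ε₁]) ?_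
      simp [σ₁, ε₁, RingHom.algebraMap_toAlgebra, ← IsScalarTower.algebraMap_apply, -map_mul, -map_pow]
      simp only [map_mul, map_pow, sub₁_C, sub₁_X, cst_apply]
      have h := congrArg (fun t => (C : B →+* B[X]) (algebraMap R B t) * X) hab
      simp only [map_add, map_mul, map_pow, map_one] at h
      linear_combination h
    have e2 : σ₁.comp ((cst (R := R) (S := B[X])).comp (AlgHom.id R B[X])) = τ := by
      refine algHom_ext (fun s => ?_) ?_ <;> simp [σ₁, ε₁, τ]
    show (ptMap (σ₁.comp _) ≫ g) * (ptMap (σ₁.comp _) ≫ g)⁻¹ = _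
    rw [e1, e2, ptMap_id, Category.id_comp]
  let σ₂ : B[X][X] →ₐ[R] B[X] :=
    ε₂.comp (sub₁ cst (C (algebraMap A'[X] B[X] (C (algebraMap R A' r)) ^ M) * X))
  have h₂ : ptMap (sub₁ (cst.comp (IsScalarTower.toAlgHom R A' B)) (X : B[X])) ≫ ptMap θ₂ ≫ φ₂ =
      ptMap τ ≫ g := by
    rw [← Category.assoc, ptMap_comp,
      show (sub₁ (cst.comp (IsScalarTower.toAlgHom R A' B)) (X : B[X])).comp θ₂ =
        ε₂.comp (sub₁ (cst.comp (IsScalarTower.toAlgHom R A'[X] B[X])) (X : B[X][X])) from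
        algHom_ext (fun s => by
          refine DFunLike.congr_fun (algHom_ext
            (f := ((sub₁ (cst.comp (IsScalarTower.toAlgHom R A' B)) (X : B[X])).comp θ₂).comp cst)
            (g := (ε₂.comp (sub₁ (cst.comp (IsScalarTower.toAlgHom R A'[X] B[X])) (X : B[X][X]))).comp cst)
            (fun c => ?_) ?_) s <;>
          simp [θ₂, ε₂, RingHom.algebraMap_toAlgebra, ← IsScalarTower.algebraMap_apply]) (by
          simp [θ₂, ε₂, ← IsScalarTower.algebraMap_apply]),
      ← ptMap_comp, Category.assoc, hφ₂, ← Category.assoc, ptMap_comp, MonObj.comp_mul, GrpObj.comp_inv,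
      ← Category.assoc, ← Category.assoc, ptMap_comp, ptMap_comp]
    have e1 : σ₂.comp (sub₁ ((cst (S := B[X])).comp cst) (C X + X)) = τ := by
      refine algHom_ext (fun s => by simp [σ₂, ε₂, τ]) ?_
      simp [σ₂, ε₂, τ, RingHom.algebraMap_toAlgebra, ← IsScalarTower.algebraMap_apply, map_mul, map_pow]
      ring
    have e2 : σ₂.comp ((cst (R := R) (S := B[X])).comp (AlgHom.id R B[X])) =
        cst.comp (sub₁ (AlgHom.id R B) 0) := by
      refine algHom_ext (fun s => ?_) ?_ <;> simp [σ₂, ε₂]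
    show (ptMap (σ₂.comp _) ≫ g) * (ptMap (σ₂.comp _) ≫ g)⁻¹ = _
    rw [e1, e2, ← ptMap_comp (sub₁ (AlgHom.id R B) 0) cst, Category.assoc, hg, MonObj.comp_one, inv_one,
      _root_.mul_one]
  rw [h₁, h₂, inv_mul_cancel_right]

end

end PatchLib
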