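import Mathlib.AlgebraicGeometry.AffineScheme
import Mathlib.AlgebraicGeometry.Cover.Open
import Mathlib.AlgebraicGeometry.Pullbacks
import Mathlib.RingTheory.Localization.Away.Basic
import Mathlib.RingTheory.Spectrum.Prime.Topology

/-!
# Milnor squares are pushouts of schemes
-/

set_option autoImplicit false

universe u

open CategoryTheory Limits AlgebraicGeometry

namespace PatchLib

variable {C A B D : Type u} [CommRing C] [CommRing A] [CommRing B] [CommRing D]

/-- A fibre product of rings along a surjection. -/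
structure IsMilnor (π : C →+* A) (σ : C →+* B) (p : A →+* D) (q : B →+* D) : Prop where
  comm : ∀ c, p (π c) = q (σ c)
  inj : ∀ c c', π c = π c' → σ c = σ c' → c = c'
  exists_eq : ∀ a b, p a = q b → ∃ c, π c = a ∧ σ c = b
  surj : Function.Surjective q

variable {π : C →+* A} {σ : C →+* B} {p : A →+* D} {q : B →+* D} (M : IsMilnor π σ p q)

noncomputable section

/-- The inclusion of a basic open. -/
abbrev basicι (c : C) : Spec (CommRingCat.of (Localization.Away c)) ⟶ Spec (CommRingCat.of C) :=
  Spec.map (CommRingCat.ofHom (algebraMap C (Localization.Away c)))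

theorem range_basicι (c : C) :
    Set.range (basicι c) = (PrimeSpectrum.basicOpen c : Set (PrimeSpectrum C)) :=
  PrimeSpectrum.localization_away_comap_range (Localization.Away c) c

instance (c : C) : IsOpenImmersion (basicι c) :=
  IsOpenImmersion.of_isLocalization (S := Localization.Away c) c

/-- The map on basic opens induced by a ring map. -/
def awayπ (f : C →+* A) (c : C) : Localization.Away c →+* Localization.Away (f c) :=
  IsLocalization.Away.lift c (g := (algebraMap A (Localization.Away (f c))).comp f)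
    (IsLocalization.Away.algebraMap_isUnit (f c))

def awayp (π : C →+* A) (p : A →+* D) (c : C) : Localization.Away (π c) →+* Localization.Away (p (π c)) :=
  IsLocalization.Away.lift (π c) (g := (algebraMap D (Localization.Away (p (π c)))).comp p)
    (IsLocalization.Away.algebraMap_isUnit (p (π c)))

include M in
theorem isUnit_q (c : C) :
    IsUnit ((algebraMap D (Localization.Away (p (π c)))).comp q (σ c)) := by
  rw [RingHom.comp_apply, ← M.comm]; exact IsLocalization.Away.algebraMap_isUnit _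

/-- The surjection of the localised square. -/
def awayq (c : C) : Localization.Away (σ c) →+* Localization.Away (p (π c)) :=
  IsLocalization.Away.lift (σ c) (g := (algebraMap D (Localization.Away (p (π c)))).comp q) (isUnit_q M c)

theorem awayπ_algebraMap (f : C →+* A) (c x : C) :
    awayπ f c (algebraMap C _ x) = algebraMap A _ (f x) := by
  simp [awayπ, IsLocalization.Away.lift_eq]

theorem awayπ_comp (f : C →+* A) (c : C) :
    (awayπ f c).comp (algebraMap C _) = (algebraMap A _).comp f :=
  IsLocalization.Away.lift_comp _ _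

theorem awayπ_basicι (f : C →+* A) (c : C) :
    Spec.map (CommRingCat.ofHom (awayπ f c)) ≫ basicι c =
      basicι (f c) ≫ Spec.map (CommRingCat.ofHom f) := by
  rw [← Spec.map_comp, ← Spec.map_comp, ← CommRingCat.ofHom_comp, ← CommRingCat.ofHom_comp, awayπ_comp]

theorem awayp_basicι (c : C) :
    Spec.map (CommRingCat.ofHom (awayp π p c)) ≫ basicι (π c) =
      basicι (p (π c)) ≫ Spec.map (CommRingCat.ofHom p) := by
  rw [← Spec.map_comp, ← Spec.map_comp, ← CommRingCat.ofHom_comp, ← CommRingCat.ofHom_comp, awayp,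
    IsLocalization.Away.lift_comp]

theorem awayq_basicι (c : C) :
    Spec.map (CommRingCat.ofHom (awayq M c)) ≫ basicι (σ c) =
      basicι (p (π c)) ≫ Spec.map (CommRingCat.ofHom q) := by
  rw [← Spec.map_comp, ← Spec.map_comp, ← CommRingCat.ofHom_comp, ← CommRingCat.ofHom_comp, awayq,
    IsLocalization.Away.lift_comp]

include M in
/-- Milnor squares localise. -/
theorem away (c : C) : IsMilnor (awayπ π c) (awayπ σ c) (awayp π p c) (awayq M c) := by
  constructor
  · have : (awayp π p c).comp (awayπ π c) = (awayq M c).comp (awayπ σ c) :=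
      IsLocalization.ringHom_ext (Submonoid.powers c) (RingHom.ext fun x => by
        simp [awayπ, awayp, awayq, IsLocalization.Away.lift_eq, M.comm])
    exact RingHom.congr_fun this
  · intro x x' h1 h2
    rw [← sub_eq_zero] at h1 h2 ⊢
    rw [← map_sub] at h1 h2
    obtain ⟨n, y, hy⟩ := IsLocalization.Away.surj c (x - x')
    have e1 : algebraMap A (Localization.Away (π c)) (π y) = 0 := by
      rw [← awayπ_algebraMap, ← hy, map_mul, h1, zero_mul]
    have e2 : algebraMap B (Localization.Away (σ c)) (σ y) = 0 := by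
      rw [← awayπ_algebraMap, ← hy, map_mul, h2, zero_mul]
    obtain ⟨⟨_, k, rfl⟩, hk⟩ := (IsLocalization.map_eq_zero_iff (Submonoid.powers (π c)) _ _).1 e1
    obtain ⟨⟨_, l, rfl⟩, hl⟩ := (IsLocalization.map_eq_zero_iff (Submonoid.powers (σ c)) _ _).1 e2
    have h0 : c ^ (k + l) * y = 0 := M.inj _ _
      (by simp only [map_mul, map_pow, map_zero]; rw [pow_add, mul_right_comm]; simp only at hk; rw [hk, zero_mul])
      (by simp only [map_mul, map_pow, map_zero]; rw [pow_add, mul_assoc]; simp only at hl; rw [hl, mul_zero])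
    have hu := (IsLocalization.Away.algebraMap_isUnit (S := Localization.Away c) c).pow (k + l)
    have hu' := (IsLocalization.Away.algebraMap_isUnit (S := Localization.Away c) c).pow n
    have : algebraMap C (Localization.Away c) y = 0 := by
      have := congrArg (algebraMap C (Localization.Away c)) h0
      rw [map_mul, map_pow, map_zero] at this
      exact hu.mul_right_eq_zero.1 this
    rw [this] at hy
    exact hu'.mul_left_eq_zero.1 hy
  · intro x y hxy
    obtain ⟨n₀, a, ha⟩ := IsLocalization.Away.surj (π c) x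
    obtain ⟨m₀, b, hb⟩ := IsLocalization.Away.surj (σ c) y
    -- a common denominator
    have ha' : x * algebraMap A _ (π c) ^ (n₀ + m₀) = algebraMap A _ (a * π c ^ m₀) := by
      rw [map_mul, map_pow, ← ha, pow_add]; ring
    have hb' : y * algebraMap B _ (σ c) ^ (n₀ + m₀) = algebraMap B _ (b * σ c ^ n₀) := by
      rw [map_mul, map_pow, ← hb, pow_add]; ring
    have hpq : algebraMap D (Localization.Away (p (π c))) (p (a * π c ^ m₀)) =
        algebraMap D _ (q (b * σ c ^ n₀)) := by
      have e1 := congrArg (awayp π p c) ha'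
      have e2 := congrArg (awayq M c) hb'
      simp only [map_mul, map_pow, awayp, awayq, IsLocalization.Away.lift_eq, RingHom.comp_apply] at e1 e2
      simp only [map_mul, map_pow]
      rw [← e1, ← e2, ← M.comm c]
      exact congrArg (· * _) hxy
    obtain ⟨⟨_, k, rfl⟩, hk⟩ := IsLocalization.exists_of_eq (M := Submonoid.powers (p (π c))) hpq
    simp only at hk
    obtain ⟨z, hz1, hz2⟩ := M.exists_eq (π c ^ k * (a * π c ^ m₀)) (σ c ^ k * (b * σ c ^ n₀))
      (by rw [map_mul p, map_mul q, map_pow, map_pow, ← M.comm, hk])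
    have hu := (IsLocalization.Away.algebraMap_isUnit (S := Localization.Away c) c).pow (n₀ + m₀ + k)
    obtain ⟨w, hw⟩ := hu.dvd (a := algebraMap C (Localization.Away c) z)
    refine ⟨w, ?_, ?_⟩
    · have h := congrArg (awayπ π c) hw
      rw [map_mul, map_pow, awayπ_algebraMap, awayπ_algebraMap, hz1, map_mul, map_pow, ← ha'] at h
      exact ((IsLocalization.Away.algebraMap_isUnit (π c)).pow (n₀ + m₀ + k)).mul_left_cancel
        (h.symm.trans (by rw [pow_add]; ring))
    · have h := congrArg (awayπ σ c) hw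
      rw [map_mul, map_pow, awayπ_algebraMap, awayπ_algebraMap, hz2, map_mul, map_pow, ← hb'] at h
      exact ((IsLocalization.Away.algebraMap_isUnit (σ c)).pow (n₀ + m₀ + k)).mul_left_cancel
        (h.symm.trans (by rw [pow_add]; ring))
  · intro x
    obtain ⟨n, d, hd⟩ := IsLocalization.Away.surj (p (π c)) x
    obtain ⟨b, rfl⟩ := M.surj d
    obtain ⟨y, hy⟩ := ((IsLocalization.Away.algebraMap_isUnit (S := Localization.Away (σ c)) (σ c)).pow n).dvd
      (a := algebraMap B (Localization.Away (σ c)) b)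
    refine ⟨y, ?_⟩
    have h := congrArg (awayq M c) hy
    simp only [map_mul, map_pow, awayq, IsLocalization.Away.lift_eq, RingHom.comp_apply] at h
    rw [← M.comm, ← hd] at h
    exact ((IsLocalization.Away.algebraMap_isUnit (p (π c))).pow n).mul_left_cancel (h.symm.trans (mul_comm _ _))

include M in
theorem surjective_fst : Function.Surjective π := fun a => by
  obtain ⟨b, hb⟩ := M.surj (p a)
  obtain ⟨c, hc, -⟩ := M.exists_eq a b hb.symm
  exact ⟨c, hc⟩

include M in
/-- Primes come from one of the two rings. -/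
theorem prime_cases (P : Ideal C) [P.IsPrime] :
    (∃ P' : Ideal A, P'.IsPrime ∧ P'.comap π = P) ∨
    ∃ (P' : Ideal B), P'.IsPrime ∧ P'.comap σ = P ∧ ∀ b ∉ P', ∃ z ∉ P, π z = 0 ∧ b ∣ σ z := by
  by_cases h : RingHom.ker π ≤ P
  · exact Or.inl ⟨P.map π, Ideal.map_isPrime_of_surjective (surjective_fst M) h,
      (Ideal.comap_map_of_surjective π (surjective_fst M) P).trans (sup_eq_left.2 (by
        rwa [← RingHom.ker_eq_comap_bot]))⟩
  obtain ⟨z, hz, hzP⟩ := SetLike.not_le_iff_exists.1 h
  rw [RingHom.mem_ker] at hz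
  have hex : ∀ b, ∃ c, π c = 0 ∧ σ c = σ z * b := fun b => M.exists_eq _ _ (by
    rw [map_zero, map_mul, ← M.comm, hz, map_zero, zero_mul])
  choose t ht1 ht2 using hex
  have hadd : ∀ a b, t (a + b) = t a + t b := fun a b => M.inj _ _ (by simp [ht1]) (by simp [ht2, mul_add])
  have hmul : ∀ a b, z * t (a * b) = t a * t b := fun a b => M.inj _ _ (by simp [ht1, hz]) (by
    simp only [map_mul, ht2]; ring)
  let P' : Ideal B :=
    { carrier := {b | t b ∈ P}
      add_mem' := fun {a b} ha hb => by
        show t (a + b) ∈ P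
        rw [hadd]; exact P.add_mem ha hb
      zero_mem' := by
        show t 0 ∈ P
        rw [show t 0 = 0 from M.inj _ _ (by simp [ht1]) (by simp [ht2])]; exact P.zero_mem
      smul_mem' := fun a b hb => by
        show t (a • b) ∈ P
        have : z * t (a * b) ∈ P := hmul a b ▸ P.mul_mem_left _ hb
        exact (Ideal.IsPrime.mem_or_mem ‹_› this).resolve_left hzP }
  have htσ : ∀ c, t (σ c) = z * c := fun c => M.inj _ _ (by simp [ht1, hz]) (by simp [ht2])
  refine Or.inr ⟨P', ⟨fun h => ?_, fun {a b} hab => ?_⟩, Ideal.ext fun c => ?_, fun b hb => ?_⟩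
  · have h1 : t 1 ∈ P := (Ideal.eq_top_iff_one _).1 h
    rw [← map_one σ, htσ, mul_one] at h1
    exact hzP h1
  · have h := P.mul_mem_left z (show t (a * b) ∈ P from hab)
    rw [hmul] at h
    exact Ideal.IsPrime.mem_or_mem (‹P.IsPrime›) h
  · show t (σ c) ∈ P ↔ c ∈ P
    rw [htσ]
    exact ⟨fun h => (Ideal.IsPrime.mem_or_mem ‹_› h).resolve_left hzP, P.mul_mem_left _⟩
  · exact ⟨t b, hb, ht1 b, ht2 b ▸ Dvd.intro_left _ rfl⟩

variable {G : Scheme.{u}}

include M in
/-- Gluing into an affine open. -/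
theorem exists_glue_affine (eA : Spec (CommRingCat.of A) ⟶ G) (eB : Spec (CommRingCat.of B) ⟶ G)
    (h : Spec.map (CommRingCat.ofHom p) ≫ eA = Spec.map (CommRingCat.ofHom q) ≫ eB)
    {U : G.Opens} (hU : IsAffineOpen U) (hA : Set.range eA ⊆ (U : Set G)) (hB : Set.range eB ⊆ (U : Set G)) :
    ∃ g : Spec (CommRingCat.of C) ⟶ G, Spec.map (CommRingCat.ofHom π) ≫ g = eA ∧
      Spec.map (CommRingCat.ofHom σ) ≫ g = eB ∧ Set.range g ⊆ (U : Set G) := by
  have hr : (U : Set G) = Set.range U.ι := (Scheme.Opens.range_ι U).symm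
  let a := Spec.preimage (IsOpenImmersion.lift U.ι eA (hr ▸ hA) ≫ hU.isoSpec.hom)
  let b := Spec.preimage (IsOpenImmersion.lift U.ι eB (hr ▸ hB) ≫ hU.isoSpec.hom)
  have ha : Spec.map a ≫ hU.isoSpec.inv ≫ U.ι = eA := by
    simp [a, IsOpenImmersion.lift_fac]
  have hb : Spec.map b ≫ hU.isoSpec.inv ≫ U.ι = eB := by
    simp [b, IsOpenImmersion.lift_fac]
  have hab : a ≫ CommRingCat.ofHom p = b ≫ CommRingCat.ofHom q := by
    apply Spec.map_injective
    rw [← cancel_mono (hU.isoSpec.inv ≫ U.ι), Spec.map_comp, Spec.map_comp, Category.assoc, Category.assoc, ha, hb, h]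
  choose c hc1 hc2 using fun x => M.exists_eq (a x) (b x) (ConcreteCategory.congr_hom hab x)
  let f : Γ(G, U) →+* C :=
    { toFun := c
      map_one' := M.inj _ _ (by simp [hc1]) (by simp [hc2])
      map_zero' := M.inj _ _ (by simp [hc1]) (by simp [hc2])
      map_add' := fun x y => M.inj _ _ (by simp [hc1]) (by simp [hc2])
      map_mul' := fun x y => M.inj _ _ (by simp [hc1]) (by simp [hc2]) }
  refine ⟨Spec.map (CommRingCat.ofHom f) ≫ hU.isoSpec.inv ≫ U.ι, ?_, ?_, ?_⟩
  · rw [← ha, ← Category.assoc, ← Spec.map_comp]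
    congr 2
    ext x; exact hc1 x
  · rw [← hb, ← Category.assoc, ← Spec.map_comp]
    congr 2
    ext x; exact hc2 x
  · rintro _ ⟨x, rfl⟩
    rw [hr]
    exact ⟨hU.isoSpec.inv (Spec.map (CommRingCat.ofHom f) x), rfl⟩

include M in
theorem hom_ext_affine {g g' : Spec (CommRingCat.of C) ⟶ G} {U : G.Opens} (hU : IsAffineOpen U)
    (hg : Set.range g ⊆ (U : Set G)) (hg' : Set.range g' ⊆ (U : Set G))
    (h1 : Spec.map (CommRingCat.ofHom π) ≫ g = Spec.map (CommRingCat.ofHom π) ≫ g')
    (h2 : Spec.map (CommRingCat.ofHom σ) ≫ g = Spec.map (CommRingCat.ofHom σ) ≫ g') : g = g' := by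
  have hr : (U : Set G) = Set.range U.ι := (Scheme.Opens.range_ι U).symm
  let a := Spec.preimage (IsOpenImmersion.lift U.ι g (hr ▸ hg) ≫ hU.isoSpec.hom)
  let a' := Spec.preimage (IsOpenImmersion.lift U.ι g' (hr ▸ hg') ≫ hU.isoSpec.hom)
  have ha : Spec.map a ≫ hU.isoSpec.inv ≫ U.ι = g := by simp [a, IsOpenImmersion.lift_fac]
  have ha' : Spec.map a' ≫ hU.isoSpec.inv ≫ U.ι = g' := by simp [a', IsOpenImmersion.lift_fac]
  have e : ∀ {E : Type u} [CommRing E] (θ : C →+* E),
      Spec.map (CommRingCat.ofHom θ) ≫ g = Spec.map (CommRingCat.ofHom θ) ≫ g' → ∀ x, θ (a x) = θ (a' x) := by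
    intro E _ θ hθ
    rw [← ha, ← ha', ← Category.assoc, ← Category.assoc (Spec.map _) (Spec.map a'), cancel_mono,
      ← Spec.map_comp, ← Spec.map_comp] at hθ
    exact fun x => ConcreteCategory.congr_hom (Spec.map_injective hθ) x
  rw [← ha, ← ha', show a = a' from CommRingCat.hom_ext (RingHom.ext fun x => M.inj _ _ (e π h1 x) (e σ h2 x))]

include M in
theorem apply_eq {g g' : Spec (CommRingCat.of C) ⟶ G}
    (h1 : Spec.map (CommRingCat.ofHom π) ≫ g = Spec.map (CommRingCat.ofHom π) ≫ g')
    (h2 : Spec.map (CommRingCat.ofHom σ) ≫ g = Spec.map (CommRingCat.ofHom σ) ≫ g')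
    (x : Spec (CommRingCat.of C)) : g x = g' x := by
  have := x.isPrime
  rcases prime_cases M x.asIdeal with ⟨P', hP', hx⟩ | ⟨P', hP', hx, -⟩
  · have e : x = Spec.map (CommRingCat.ofHom π) ⟨P', hP'⟩ := PrimeSpectrum.ext hx.symm
    rw [e]
    exact congrArg (fun k => k ⟨P', hP'⟩) (congrArg (fun k : Spec (CommRingCat.of A) ⟶ G => ⇑k) h1)
  · have e : x = Spec.map (CommRingCat.ofHom σ) ⟨P', hP'⟩ := PrimeSpectrum.ext hx.symm
    rw [e]
    exact congrArg (fun k => k ⟨P', hP'⟩) (congrArg (fun k : Spec (CommRingCat.of B) ⟶ G => ⇑k) h2)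

omit [CommRing A] [CommRing B] [CommRing D] in
theorem exists_basic_subset (W : Set (Spec (CommRingCat.of C))) (hW : IsOpen W) {x : Spec (CommRingCat.of C)}
    (hx : x ∈ W) : ∃ c : C, c ∉ x.asIdeal ∧ Set.range (basicι c) ⊆ W := by
  obtain ⟨_, ⟨c, rfl⟩, hxc, hcW⟩ := PrimeSpectrum.isTopologicalBasis_basic_opens.exists_subset_of_mem_open hx hW
  exact ⟨c, hxc, range_basicι c ▸ hcW⟩

include M in
/-- Morphisms out of a Milnor square are determined by their restrictions. -/
theorem hom_ext {g g' : Spec (CommRingCat.of C) ⟶ G}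
    (h1 : Spec.map (CommRingCat.ofHom π) ≫ g = Spec.map (CommRingCat.ofHom π) ≫ g')
    (h2 : Spec.map (CommRingCat.ofHom σ) ≫ g = Spec.map (CommRingCat.ofHom σ) ≫ g') : g = g' := by
  have hex : ∀ x : Spec (CommRingCat.of C), ∃ (c : C) (U : G.Opens), c ∉ x.asIdeal ∧ IsAffineOpen U ∧
      Set.range (basicι c) ⊆ g ⁻¹' U ∩ g' ⁻¹' U := fun x => by
    obtain ⟨U, hU, hxU, -⟩ := exists_isAffineOpen_mem_and_subset (U := (⊤ : G.Opens)) (x := g x) trivial
    obtain ⟨c, hc, hcW⟩ := exists_basic_subset _ ((U.isOpen.preimage g.continuous).inter (U.isOpen.preimage g'.continuous))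
      (show x ∈ g ⁻¹' U ∩ g' ⁻¹' U from ⟨hxU, by
        show g' x ∈ (U : Set G)
        rw [← apply_eq M h1 h2 x]; exact hxU⟩)
    exact ⟨c, U, hc, hU, hcW⟩
  choose c U hc hU hsub using hex
  refine Scheme.Cover.hom_ext (Scheme.Cover.mkOfCovers (Spec (CommRingCat.of C))
    (fun x => Spec (CommRingCat.of (Localization.Away (c x)))) (fun x => basicι (c x))
    (fun x => ⟨x, by
      have : x ∈ Set.range (basicι (c x)) := by rw [range_basicι]; exact hc x
      exact this⟩) (fun x => inferInstance)) _ _ fun x => ?_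
  refine hom_ext_affine (away M (c x)) (hU x) ?_ ?_ ?_ ?_
  · rintro _ ⟨y, rfl⟩; exact (hsub x ⟨y, rfl⟩).1
  · rintro _ ⟨y, rfl⟩; exact (hsub x ⟨y, rfl⟩).2
  · show Spec.map _ ≫ basicι (c x) ≫ g = Spec.map _ ≫ basicι (c x) ≫ g'
    rw [← Category.assoc, awayπ_basicι, Category.assoc, h1, ← Category.assoc, ← awayπ_basicι, Category.assoc]
  · show Spec.map _ ≫ basicι (c x) ≫ g = Spec.map _ ≫ basicι (c x) ≫ g'
    rw [← Category.assoc, awayπ_basicι, Category.assoc, h2, ← Category.assoc, ← awayπ_basicι, Category.assoc]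

include M in
/-- **A Milnor square is a pushout of schemes.** -/
theorem exists_glue (eA : Spec (CommRingCat.of A) ⟶ G) (eB : Spec (CommRingCat.of B) ⟶ G)
    (h : Spec.map (CommRingCat.ofHom p) ≫ eA = Spec.map (CommRingCat.ofHom q) ≫ eB) :
    ∃ g : Spec (CommRingCat.of C) ⟶ G,
      Spec.map (CommRingCat.ofHom π) ≫ g = eA ∧ Spec.map (CommRingCat.ofHom σ) ≫ g = eB := by
  have hex : ∀ x : Spec (CommRingCat.of C), ∃ (c : C) (U : G.Opens), c ∉ x.asIdeal ∧ IsAffineOpen U ∧
      Set.range (basicι (π c)) ⊆ eA ⁻¹' U ∧ Set.range (basicι (σ c)) ⊆ eB ⁻¹' U := fun x => by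
    have := x.isPrime
    rcases prime_cases M x.asIdeal with ⟨P', hP', hx⟩ | ⟨P', hP', hx, hz⟩
    · obtain ⟨U, hU, hxU, -⟩ := exists_isAffineOpen_mem_and_subset (U := (⊤ : G.Opens)) (x := eA ⟨P', hP'⟩) trivial
      obtain ⟨a, ha, haU⟩ := exists_basic_subset _ (U.isOpen.preimage eA.continuous) (show _ ∈ eA ⁻¹' U from hxU)
      obtain ⟨J, hJ⟩ := (PrimeSpectrum.isClosed_iff_zeroLocus_ideal _).1
        (U.isOpen.preimage eB.continuous).isClosed_compl
      have hrad : p a ∈ (J.map q).radical := by
        rw [Ideal.radical_eq_sInf, Ideal.mem_sInf]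
        rintro Q ⟨hJQ, hQ⟩
        by_contra hpa
        have h1 : (⟨Q.comap p, inferInstance⟩ : PrimeSpectrum A) ∈ Set.range (basicι a) := by
          rw [range_basicι]; exact hpa
        have h2 := congrArg (fun k : Spec (CommRingCat.of D) ⟶ G => k ⟨Q, hQ⟩) h
        have h3 : (⟨Q.comap q, inferInstance⟩ : PrimeSpectrum B) ∈ (eB ⁻¹' (U : Set G))ᶜ := by
          rw [hJ]
          exact Ideal.map_le_iff_le_comap.1 hJQ
        exact h3 (show eB (Spec.map (CommRingCat.ofHom q) ⟨Q, hQ⟩) ∈ (U : Set G) from h2 ▸ haU h1)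
      obtain ⟨n, hn⟩ := hrad
      obtain ⟨j, hj, hjn⟩ := (Ideal.mem_map_iff_of_surjective q M.surj).1 hn
      obtain ⟨c, hc1, hc2⟩ := M.exists_eq (a ^ (n + 1)) (j * (surjective_fst M a |>.choose |> σ))
        (by rw [map_mul, hjn, ← M.comm, (surjective_fst M a).choose_spec, map_pow, pow_succ])
      refine ⟨c, U, ?_, hU, ?_, ?_⟩
      · rw [← hx, Ideal.mem_comap, hc1]
        exact fun h => ha (hP'.mem_of_pow_mem _ h)
      · rw [hc1, range_basicι, PrimeSpectrum.basicOpen_pow _ _ n.succ_pos, ← range_basicι]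
        exact haU
      · rw [hc2, range_basicι, PrimeSpectrum.basicOpen_mul]
        intro y hy
        by_contra hyU
        have : y ∈ (eB ⁻¹' (U : Set G))ᶜ := hyU
        rw [hJ] at this
        exact hy.1 (this hj)
    · obtain ⟨U, hU, hxU, -⟩ := exists_isAffineOpen_mem_and_subset (U := (⊤ : G.Opens)) (x := eB ⟨P', hP'⟩) trivial
      obtain ⟨b, hb, hbU⟩ := exists_basic_subset _ (U.isOpen.preimage eB.continuous) (show _ ∈ eB ⁻¹' U from hxU)
      obtain ⟨z, hzx, hz1, ⟨t, ht⟩⟩ := hz b hb
      refine ⟨z, U, hzx, hU, ?_, ?_⟩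
      · rw [hz1, range_basicι, PrimeSpectrum.basicOpen_zero]
        exact Set.empty_subset _
      · rw [ht, range_basicι, PrimeSpectrum.basicOpen_mul]
        exact fun y hy => hbU (range_basicι b ▸ hy.1)
  choose c U hc hU hA hB using hex
  have hloc : ∀ x, ∃ g : Spec (CommRingCat.of (Localization.Away (c x))) ⟶ G,
      Spec.map (CommRingCat.ofHom (awayπ π (c x))) ≫ g = basicι (π (c x)) ≫ eA ∧
      Spec.map (CommRingCat.ofHom (awayπ σ (c x))) ≫ g = basicι (σ (c x)) ≫ eB ∧
      Set.range g ⊆ (U x : Set G) := fun x => by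
    refine exists_glue_affine (away M (c x)) _ _ ?_ (hU x) ?_ ?_
    · rw [← Category.assoc, awayp_basicι, ← Category.assoc, awayq_basicι, Category.assoc, Category.assoc, h]
    · rintro _ ⟨y, rfl⟩; exact hA x ⟨y, rfl⟩
    · rintro _ ⟨y, rfl⟩; exact hB x ⟨y, rfl⟩
  choose g hgA hgB _hgr using hloc
  let 𝒰 : (Spec (CommRingCat.of C)).OpenCover := Scheme.Cover.mkOfCovers (Spec (CommRingCat.of C))
    (fun x => Spec (CommRingCat.of (Localization.Away (c x)))) (fun x => basicι (c x))
    (fun x => ⟨x, by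
      have : x ∈ Set.range (basicι (c x)) := by rw [range_basicι]; exact hc x
      exact this⟩) (fun x => inferInstance)
  have hov : ∀ (x : Spec (CommRingCat.of C)) (d : C)
      (l : Spec (CommRingCat.of (Localization.Away d)) ⟶ Spec (CommRingCat.of (Localization.Away (c x))))
      (_ : l ≫ basicι (c x) = basicι d),
      Spec.map (CommRingCat.ofHom (awayπ π d)) ≫ l ≫ g x = basicι (π d) ≫ eA ∧
      Spec.map (CommRingCat.ofHom (awayπ σ d)) ≫ l ≫ g x = basicι (σ d) ≫ eB := by
    intro x d l hl
    constructor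
    · have hsub : Set.range (basicι (π d)) ⊆ Set.range (basicι (π (c x))) := by
        rw [range_basicι, range_basicι]
        intro y hy
        have : Spec.map (CommRingCat.ofHom π) y ∈ Set.range (basicι d) := by rw [range_basicι]; exact hy
        obtain ⟨w, hw⟩ := this
        have : Spec.map (CommRingCat.ofHom π) y ∈ Set.range (basicι (c x)) := ⟨l w, by rw [← hw, ← hl]; rfl⟩
        rw [range_basicι] at this
        exact this
      let lA := IsOpenImmersion.lift (basicι (π (c x))) (basicι (π d)) hsub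
      have : lA ≫ Spec.map (CommRingCat.ofHom (awayπ π (c x))) = Spec.map (CommRingCat.ofHom (awayπ π d)) ≫ l := by
        rw [← cancel_mono (basicι (c x)), Category.assoc, Category.assoc, awayπ_basicι, hl, awayπ_basicι,
          IsOpenImmersion.lift_fac_assoc]
      rw [← Category.assoc, ← this, Category.assoc, hgA, IsOpenImmersion.lift_fac_assoc]
    · have hsub : Set.range (basicι (σ d)) ⊆ Set.range (basicι (σ (c x))) := by
        rw [range_basicι, range_basicι]
        intro y hy
        have : Spec.map (CommRingCat.ofHom σ) y ∈ Set.range (basicι d) := by rw [range_basicι]; exact hy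
        obtain ⟨w, hw⟩ := this
        have : Spec.map (CommRingCat.ofHom σ) y ∈ Set.range (basicι (c x)) := ⟨l w, by rw [← hw, ← hl]; rfl⟩
        rw [range_basicι] at this
        exact this
      let lA := IsOpenImmersion.lift (basicι (σ (c x))) (basicι (σ d)) hsub
      have : lA ≫ Spec.map (CommRingCat.ofHom (awayπ σ (c x))) = Spec.map (CommRingCat.ofHom (awayπ σ d)) ≫ l := by
        rw [← cancel_mono (basicι (c x)), Category.assoc, Category.assoc, awayπ_basicι, hl, awayπ_basicι,
          IsOpenImmersion.lift_fac_assoc]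
      rw [← Category.assoc, ← this, Category.assoc, hgB, IsOpenImmersion.lift_fac_assoc]
  let k := Scheme.Cover.glueMorphisms 𝒰 g fun x y => by
    show pullback.fst (basicι (c x)) (basicι (c y)) ≫ g x = pullback.snd _ _ ≫ g y
    have hrange : Set.range (pullback.fst (basicι (c x)) (basicι (c y)) ≫ basicι (c x)) =
        Set.range (basicι (c x * c y)) := by
      rw [IsOpenImmersion.range_pullback_to_base_of_left, range_basicι, range_basicι, range_basicι,
        PrimeSpectrum.basicOpen_mul]
      rfl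
    let e := IsOpenImmersion.isoOfRangeEq (pullback.fst (basicι (c x)) (basicι (c y)) ≫ basicι (c x))
      (basicι (c x * c y)) hrange
    have he : e.inv ≫ pullback.fst (basicι (c x)) (basicι (c y)) ≫ basicι (c x) = basicι (c x * c y) :=
      IsOpenImmersion.isoOfRangeEq_inv_fac _ _ _
    rw [← cancel_epi e.inv]
    obtain ⟨a1, a2⟩ := hov x _ (e.inv ≫ pullback.fst _ _) (by rw [Category.assoc, he])
    obtain ⟨b1, b2⟩ := hov y _ (e.inv ≫ pullback.snd _ _)
      (by rw [Category.assoc, ← pullback.condition, he])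
    simp only [Category.assoc] at a1 a2 b1 b2
    exact hom_ext (away M (c x * c y)) (a1.trans b1.symm) (a2.trans b2.symm)
  have hk : ∀ x, basicι (c x) ≫ k = g x := fun x => Scheme.Cover.ι_glueMorphisms 𝒰 g _ x
  refine ⟨k, ?_, ?_⟩
  · let V : (Spec (CommRingCat.of A)).OpenCover := Scheme.Cover.mkOfCovers (Spec (CommRingCat.of A))
      (fun y => Spec (CommRingCat.of (Localization.Away (π (c (Spec.map (CommRingCat.ofHom π) y))))))
      (fun y => basicι (π (c (Spec.map (CommRingCat.ofHom π) y))))
      (fun y => ⟨y, by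
        have : y ∈ Set.range (basicι (π (c (Spec.map (CommRingCat.ofHom π) y)))) := by
          rw [range_basicι]; exact hc (Spec.map (CommRingCat.ofHom π) y)
        exact this⟩) (fun y => inferInstance)
    refine Scheme.Cover.hom_ext V _ _ fun y => ?_
    show basicι (π (c (Spec.map (CommRingCat.ofHom π) y))) ≫ _ ≫ k = _
    rw [← Category.assoc, ← awayπ_basicι, Category.assoc, hk, hgA]
    rfl
  · let V : (Spec (CommRingCat.of B)).OpenCover := Scheme.Cover.mkOfCovers (Spec (CommRingCat.of B))
      (fun y => Spec (CommRingCat.of (Localization.Away (σ (c (Spec.map (CommRingCat.ofHom σ) y))))))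
      (fun y => basicι (σ (c (Spec.map (CommRingCat.ofHom σ) y))))
      (fun y => ⟨y, by
        have : y ∈ Set.range (basicι (σ (c (Spec.map (CommRingCat.ofHom σ) y)))) := by
          rw [range_basicι]; exact hc (Spec.map (CommRingCat.ofHom σ) y)
        exact this⟩) (fun y => inferInstance)
    refine Scheme.Cover.hom_ext V _ _ fun y => ?_
    show basicι (σ (c (Spec.map (CommRingCat.ofHom σ) y))) ≫ _ ≫ k = _
    rw [← Category.assoc, ← awayπ_basicι, Category.assoc, hk, hgB]
    rfl

end

end PatchLib
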